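import Mathlib

/-!
# Presentations of finite Z-groups

A finite group with cyclic Sylow subgroups in which subgroups of order `pq` are cyclic has the
Zassenhaus presentation `⟨x, y | x^n, y^m, x⁻¹ y x = y^r⟩`.
-/

set_option autoImplicit false

namespace Cfsg.Agent.Lib.ZPres

open Subgroup
open scoped Pointwise

/-- The relators of the metacyclic presentation. -/
abbrev rels (n m r : ℕ) : Set (FreeGroup (Fin 2)) :=
  {FreeGroup.of (0 : Fin 2) ^ n, FreeGroup.of (1 : Fin 2) ^ m,
    (FreeGroup.of (0 : Fin 2))⁻¹ * FreeGroup.of 1 * FreeGroup.of 0 * (FreeGroup.of (1 : Fin 2) ^ r)⁻¹}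

/-- Every element has the form `y^a x^b`. -/
theorem exists_pow_mul_pow_aux {A : Type*} [Group A] {n m : ℕ} (X Y : A) (hn : 0 < n) (hm : 0 < m)
    (hX : X ^ n = 1) (hY : Y ^ m = 1) (hN : (zpowers Y).Normal)
    (hc : closure ({X, Y} : Set A) = ⊤) (g : A) :
    ∃ a b : ℕ, a < m ∧ b < n ∧ g = Y ^ a * X ^ b := by
  have h1 : (zpowers Y ⊔ zpowers X : Subgroup A) = ⊤ := by
    rw [eq_top_iff, ← hc]
    refine (closure_le _).mpr ?_
    intro z hz
    rcases hz with hz | hz
    · rw [hz]
      exact (le_sup_right : zpowers X ≤ zpowers Y ⊔ zpowers X) (mem_zpowers X)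
    · have hz' : z = Y := hz
      rw [hz']
      exact (le_sup_left : zpowers Y ≤ zpowers Y ⊔ zpowers X) (mem_zpowers Y)
  have h2 : g ∈ (zpowers Y ⊔ zpowers X : Subgroup A) := by rw [h1]; trivial
  have h2' : g ∈ ((zpowers Y : Set A) * (zpowers X : Set A)) := by
    rw [← Subgroup.normal_mul]
    exact h2
  obtain ⟨u, hu, v, hv, rfl⟩ := Set.mem_mul.mp h2'
  obtain ⟨k, rfl⟩ := hu
  obtain ⟨l, rfl⟩ := hv
  have hmz : (0 : ℤ) < m := by exact_mod_cast hm
  have hnz : (0 : ℤ) < n := by exact_mod_cast hn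
  have e1 : Y ^ k = Y ^ (k % (m : ℤ)).toNat := by
    have h3 : Y ^ (m : ℤ) = 1 := by
      rw [zpow_natCast]
      exact hY
    rw [zpow_eq_zpow_emod k h3, ← zpow_natCast, Int.toNat_of_nonneg (Int.emod_nonneg _ hmz.ne')]
  have e2 : X ^ l = X ^ (l % (n : ℤ)).toNat := by
    have h3 : X ^ (n : ℤ) = 1 := by
      rw [zpow_natCast]
      exact hX
    rw [zpow_eq_zpow_emod l h3, ← zpow_natCast, Int.toNat_of_nonneg (Int.emod_nonneg _ hnz.ne')]
  refine ⟨(k % (m : ℤ)).toNat, (l % (n : ℤ)).toNat, ?_, ?_, ?_⟩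
  · have := Int.emod_lt_of_pos k hmz
    have h4 := Int.emod_nonneg k hmz.ne'
    omega
  · have := Int.emod_lt_of_pos l hnz
    have h4 := Int.emod_nonneg l hnz.ne'
    omega
  · simp only at e1 e2 ⊢
    rw [← e1, ← e2]

section Pres

variable {n m r : ℕ}

local notation "P" => PresentedGroup (rels n m r)

/-- The generator `x`. -/
def X (n m r : ℕ) : PresentedGroup (rels n m r) := PresentedGroup.of (0 : Fin 2)

/-- The generator `y`. -/
def Y (n m r : ℕ) : PresentedGroup (rels n m r) := PresentedGroup.of (1 : Fin 2)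

theorem X_pow : X n m r ^ n = 1 := by
  have h : (FreeGroup.of (0 : Fin 2) ^ n) ∈ rels n m r := by simp [rels]
  have := (PresentedGroup.mk_eq_one_iff (rels := rels n m r)).mpr (Subgroup.subset_normalClosure h)
  simpa [X, PresentedGroup.of, map_pow] using this

theorem Y_pow : Y n m r ^ m = 1 := by
  have h : (FreeGroup.of (1 : Fin 2) ^ m) ∈ rels n m r := by simp [rels]
  have := (PresentedGroup.mk_eq_one_iff (rels := rels n m r)).mpr (Subgroup.subset_normalClosure h)
  simpa [Y, PresentedGroup.of, map_pow] using this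

theorem X_conj : (X n m r)⁻¹ * Y n m r * X n m r = Y n m r ^ r := by
  have h : ((FreeGroup.of (0 : Fin 2))⁻¹ * FreeGroup.of 1 * FreeGroup.of 0 *
      (FreeGroup.of (1 : Fin 2) ^ r)⁻¹) ∈ rels n m r := by simp [rels]
  have := (PresentedGroup.mk_eq_one_iff (rels := rels n m r)).mpr (Subgroup.subset_normalClosure h)
  have h2 : (X n m r)⁻¹ * Y n m r * X n m r * (Y n m r ^ r)⁻¹ = 1 := by
    simpa [X, Y, PresentedGroup.of, map_pow, map_mul, map_inv] using this
  exact mul_inv_eq_one.mp h2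

theorem closure_XY : closure ({X n m r, Y n m r} : Set P) = ⊤ := by
  rw [eq_top_iff, ← PresentedGroup.closure_range_of]
  refine closure_le _ |>.mpr ?_
  rintro _ ⟨i, rfl⟩
  fin_cases i
  · exact subset_closure (by simp [X])
  · exact subset_closure (by simp [Y])

theorem zpowers_Y_normal (hn : 0 < n) : (zpowers (Y n m r)).Normal := by
  have hXi : ∀ h ∈ zpowers (Y n m r), (X n m r)⁻¹ * h * X n m r ∈ zpowers (Y n m r) := by
    rintro _ ⟨k, rfl⟩
    have : (X n m r)⁻¹ * (Y n m r) ^ k * X n m r = ((X n m r)⁻¹ * Y n m r * X n m r) ^ k := by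
      simpa using (conj_zpow (a := (X n m r)⁻¹) (b := Y n m r) (i := k)).symm
    simp only [this, X_conj]
    exact zpow_mem (pow_mem (mem_zpowers _) _) _
  have hXp : ∀ k : ℕ, ∀ h ∈ zpowers (Y n m r), ((X n m r)⁻¹) ^ k * h * ((X n m r)⁻¹ ^ k)⁻¹ ∈
      zpowers (Y n m r) := by
    intro k
    induction k with
    | zero => intro h hh; simpa using hh
    | succ k ih =>
      intro h hh
      have h1 := hXi h hh
      have h2 := ih _ h1
      have : ((X n m r)⁻¹) ^ (k + 1) * h * (((X n m r)⁻¹) ^ (k + 1))⁻¹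
          = ((X n m r)⁻¹) ^ k * ((X n m r)⁻¹ * h * X n m r) * (((X n m r)⁻¹) ^ k)⁻¹ := by
        rw [pow_succ]
        group
      rw [this]
      exact h2
  have hXf : ∀ h ∈ zpowers (Y n m r), X n m r * h * (X n m r)⁻¹ ∈ zpowers (Y n m r) := by
    intro h hh
    have h1 := hXp (n - 1) h hh
    have h2 : ((X n m r)⁻¹) ^ (n - 1) = X n m r := by
      have h3 : (X n m r) ^ (n - 1 + 1) = 1 := by
        rw [Nat.sub_add_cancel hn]
        exact X_pow
      rw [pow_succ] at h3
      rw [inv_pow]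
      exact (mul_eq_one_iff_inv_eq.mp h3)
    rw [h2] at h1
    exact h1
  have hYf : ∀ (k : ℤ), ∀ h ∈ zpowers (Y n m r), (Y n m r) ^ k * h * ((Y n m r) ^ k)⁻¹ ∈
      zpowers (Y n m r) := by
    intro k h hh
    exact mul_mem (mul_mem (zpow_mem (mem_zpowers _) _) hh) (inv_mem (zpow_mem (mem_zpowers _) _))
  have key : ∀ g : P, (∀ h ∈ zpowers (Y n m r), g * h * g⁻¹ ∈ zpowers (Y n m r)) ∧
      (∀ h ∈ zpowers (Y n m r), g⁻¹ * h * g ∈ zpowers (Y n m r)) := by
    intro g
    have hg : g ∈ closure ({X n m r, Y n m r} : Set P) := by rw [closure_XY]; trivial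
    induction hg using closure_induction with
    | mem x hx =>
      rcases hx with rfl | rfl
      · exact ⟨hXf, hXi⟩
      · exact ⟨fun h hh => by simpa using hYf 1 h hh, fun h hh => by simpa using hYf (-1) h hh⟩
    | one => exact ⟨fun h hh => by simpa using hh, fun h hh => by simpa using hh⟩
    | mul a b _ _ ha hb =>
      refine ⟨fun h hh => ?_, fun h hh => ?_⟩
      · have := ha.1 _ (hb.1 h hh)
        simpa [mul_assoc] using this
      · have := hb.2 _ (ha.2 h hh)
        simpa [mul_assoc] using this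
    | inv a _ ih =>
      exact ⟨fun h hh => by simpa using ih.2 h hh, fun h hh => by simpa using ih.1 h hh⟩
  exact ⟨fun h hh g => (key g).1 h hh⟩

theorem exists_pow_mul_pow (hn : 0 < n) (hm : 0 < m) (g : P) :
    ∃ a b : ℕ, a < m ∧ b < n ∧ g = Y n m r ^ a * X n m r ^ b :=
  exists_pow_mul_pow_aux (X n m r) (Y n m r) hn hm X_pow Y_pow (zpowers_Y_normal hn) closure_XY g

/-- The presented group is finite of order at most `m n`. -/
theorem card_le (hn : 0 < n) (hm : 0 < m) : Finite P ∧ Nat.card P ≤ m * n := by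
  let φ : Fin m × Fin n → P := fun ab => Y n m r ^ (ab.1 : ℕ) * X n m r ^ (ab.2 : ℕ)
  have hφ : Function.Surjective φ := by
    intro g
    obtain ⟨a, b, ha, hb, rfl⟩ := exists_pow_mul_pow hn hm g
    exact ⟨(⟨a, ha⟩, ⟨b, hb⟩), rfl⟩
  haveI : Finite P := Finite.of_surjective φ hφ
  refine ⟨inferInstance, ?_⟩
  have := Nat.card_le_card_of_surjective φ hφ
  simpa [Nat.card_prod] using this

/-- Recognition: a group generated by `x`, `y` with the relations and of order `m n` is presented. -/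
theorem pres_iso {H : Type*} [Group H] [Finite H] (x y : H) (hn : 0 < n) (hm : 0 < m)
    (hx : x ^ n = 1) (hy : y ^ m = 1) (hc : x⁻¹ * y * x = y ^ r)
    (hgen : ∀ g : H, ∃ a b : ℕ, g = y ^ a * x ^ b) (hcard : Nat.card H = m * n) :
    Nonempty (H ≃* P) := by
  let f : Fin 2 → H := ![x, y]
  have hrel : ∀ s ∈ rels n m r, FreeGroup.lift f s = 1 := by
    rintro s (rfl | rfl | rfl)
    · simp [f, hx]
    · simp [f, hy]
    · simp [f, hc]
  let F : P →* H := PresentedGroup.toGroup hrel
  have hFX : F (X n m r) = x := by simp [F, X, f]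
  have hFY : F (Y n m r) = y := by simp [F, Y, f]
  have hFs : Function.Surjective F := by
    intro g
    obtain ⟨a, b, rfl⟩ := hgen g
    exact ⟨Y n m r ^ a * X n m r ^ b, by rw [map_mul, map_pow, map_pow, hFX, hFY]⟩
  obtain ⟨hfin, hle⟩ := card_le (n := n) (m := m) (r := r) hn hm
  have hb : Function.Bijective F := hFs.bijective_of_nat_card_le (by rw [hcard]; exact hle)
  exact ⟨(MulEquiv.ofBijective F hb).symm⟩

end Pres

section Arith

/-- Number theory: `o ∣ n / rad n` when `o ∣ n / ℓ` for all primes `ℓ ∣ n`. -/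
theorem dvd_div_rad {o n : ℕ} (hn : 0 < n) (h0 : o ∣ n) (h : ∀ l : ℕ, l.Prime → l ∣ n → o ∣ n / l) :
    o ∣ n / ∏ p ∈ n.primeFactors, p := by
  have key : ∀ S : Finset ℕ, S ⊆ n.primeFactors → o * ∏ p ∈ S, p ∣ n := by
    intro S
    induction S using Finset.induction_on with
    | empty => intro _; simpa using h0
    | insert a S ha ih =>
      intro hS
      have ha' : a ∈ n.primeFactors := hS (Finset.mem_insert_self _ _)
      have hS' : S ⊆ n.primeFactors := fun b hb => hS (Finset.mem_insert_of_mem hb)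
      have hap := Nat.prime_of_mem_primeFactors ha'
      have had := Nat.dvd_of_mem_primeFactors ha'
      have h1 := ih hS'
      have h2 : o * a ∣ n := by
        have h3 := h a hap had
        have h4 := Nat.mul_dvd_mul_right h3 a
        rwa [Nat.div_mul_cancel had] at h4
      have hcop : Nat.Coprime (∏ p ∈ S, p) a := by
        apply Nat.Coprime.prod_left
        intro b hb
        have hbp := Nat.prime_of_mem_primeFactors (hS' hb)
        rw [Nat.coprime_primes hbp hap]
        rintro rfl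
        exact ha hb
      have h5 : Nat.lcm (o * ∏ p ∈ S, p) (o * a) ∣ n := Nat.lcm_dvd h1 h2
      rw [Nat.lcm_mul_left, hcop.lcm_eq_mul] at h5
      rwa [Finset.prod_insert ha, mul_comm a]
  have h1 := key _ (Finset.Subset.refl _)
  rw [mul_comm] at h1
  exact Nat.dvd_div_of_mul_dvd h1

end Arith

section Data

variable {H : Type*} [Group H] [Finite H]

theorem conj_pow_eq {x y : H} {r : ℕ} (hc : x⁻¹ * y * x = y ^ r) (k : ℕ) :
    (x ^ k)⁻¹ * y * x ^ k = y ^ (r ^ k) := by
  induction k with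
  | zero => simp
  | succ k ih =>
    have h1 : (x ^ (k + 1))⁻¹ * y * x ^ (k + 1) = x⁻¹ * ((x ^ k)⁻¹ * y * x ^ k) * x := by
      rw [pow_succ]
      group
    rw [h1, ih]
    have h2 : x⁻¹ * y ^ (r ^ k) * x = (x⁻¹ * y * x) ^ (r ^ k) := by
      have := conj_pow (a := x⁻¹) (b := y) (i := r ^ k)
      simpa using this.symm
    rw [h2, hc, ← pow_mul, pow_succ, mul_comm r]

/-- `r - 1` is prime to `m` when `⟨y⟩` is the derived subgroup. -/
theorem coprime_sub_one (x y : H) {m r : ℕ} (hm : 0 < m) (hy : orderOf y = m)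
    (hc : x⁻¹ * y * x = y ^ r) (hr : 1 ≤ r) (hgen : ∀ g : H, ∃ a b : ℕ, g = y ^ a * x ^ b)
    (hK : commutator H = zpowers y) : Nat.Coprime (r - 1) m := by
  classical
  by_contra hcop
  obtain ⟨s, hs, hs1, hs2⟩ := Nat.Prime.not_coprime_iff_dvd.mp hcop
  let L : Subgroup H := zpowers (y ^ s)
  have hKn : (zpowers y).Normal := by
    rw [← hK]
    infer_instance
  haveI hLn : L.Normal := by
    refine ⟨fun h hh g => ?_⟩
    obtain ⟨k, rfl⟩ := hh
    have h1 : g * y * g⁻¹ ∈ zpowers y := hKn.conj_mem y (mem_zpowers y) g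
    obtain ⟨t, ht⟩ := h1
    have h2 : g * (y ^ s) ^ k * g⁻¹ = ((y ^ s) ^ t) ^ k := by
      have h3 : g * (y ^ s) ^ k * g⁻¹ = (g * y * g⁻¹) ^ (s * k) := by
        rw [← zpow_natCast y s, ← zpow_mul, ← conj_zpow (a := g)]
      rw [h3, ← ht, ← zpow_natCast y s, ← zpow_mul, ← zpow_mul, ← zpow_mul]
      congr 1
      push_cast
      ring
    show g * (y ^ s) ^ k * g⁻¹ ∈ L
    rw [h2]
    exact zpow_mem (zpow_mem (mem_zpowers _) _) _
  let π : H →* H ⧸ L := QuotientGroup.mk' L
  have hπs : Function.Surjective π := QuotientGroup.mk'_surjective L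
  have hpow : π (y ^ (r - 1)) = 1 := by
    have : y ^ (r - 1) ∈ L := by
      obtain ⟨t, ht⟩ := hs1
      rw [ht, pow_mul]
      exact pow_mem (mem_zpowers _) _
    have h2 : y ^ (r - 1) ∈ π.ker := by
      rw [QuotientGroup.ker_mk']
      exact this
    exact h2
  have hcomm : Commute (π x) (π y) := by
    have h1 : π x⁻¹ * π y * π x = π y := by
      rw [← map_mul, ← map_mul, hc]
      have : y ^ r = y * y ^ (r - 1) := by
        rw [← pow_succ', Nat.sub_add_cancel hr]
      rw [this, map_mul, hpow, mul_one]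
    rw [map_inv] at h1
    show π x * π y = π y * π x
    calc π x * π y = π x * ((π x)⁻¹ * π y * π x) := by rw [h1]
      _ = π y * π x := by group
  have hab : ∀ u v : H ⧸ L, u * v = v * u := by
    intro u v
    obtain ⟨u', rfl⟩ := hπs u
    obtain ⟨v', rfl⟩ := hπs v
    obtain ⟨a, b, rfl⟩ := hgen u'
    obtain ⟨c, d, rfl⟩ := hgen v'
    simp only [map_mul, map_pow]
    have h1 : Commute (π y ^ a * π x ^ b) (π y ^ c * π x ^ d) := by
      apply Commute.mul_left
      · apply Commute.mul_right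
        · exact (Commute.refl _).pow_pow _ _
        · exact hcomm.symm.pow_pow _ _
      · apply Commute.mul_right
        · exact hcomm.pow_pow _ _
        · exact (Commute.refl _).pow_pow _ _
    exact h1
  have hle : commutator H ≤ L := by
    rw [← QuotientGroup.ker_mk' L]
    show commutator H ≤ π.ker
    rw [_root_.commutator_def, Subgroup.commutator_le]
    intro g _ h _
    rw [MonoidHom.mem_ker, commutatorElement_def]
    simp only [map_mul, map_inv]
    rw [hab (π g) (π h)]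
    group
  have hyL : y ∈ L := hle (by rw [hK]; exact mem_zpowers y)
  obtain ⟨t, ht⟩ := hyL
  have h1 : y ^ ((s : ℤ) * t - 1) = 1 := by
    have h2 : y ^ ((s : ℤ) * t) = y := by
      rw [zpow_mul, zpow_natCast]
      exact ht
    rw [sub_eq_add_neg, zpow_add, h2, zpow_neg, zpow_one, mul_inv_cancel]
  have h2 : (orderOf y : ℤ) ∣ (s : ℤ) * t - 1 := orderOf_dvd_iff_zpow_eq_one.mpr h1
  rw [hy] at h2
  have h3 : (s : ℤ) ∣ (m : ℤ) := by exact_mod_cast hs2
  have h4 : (s : ℤ) ∣ (s : ℤ) * t - 1 := h3.trans h2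
  have h5 : (s : ℤ) ∣ 1 := by
    have h6 := dvd_sub (Dvd.intro t rfl : (s : ℤ) ∣ (s : ℤ) * t) h4
    simpa using h6
  have h6 : s ∣ 1 := by exact_mod_cast h5
  exact hs.one_lt.ne' (Nat.dvd_one.mp h6)

/-- The power condition at a single prime. -/
theorem pow_div_prime (x y : H) {n m r l : ℕ} (hm : 0 < m) (hn : 0 < n) (hx : orderOf x = n)
    (hy : orderOf y = m) (hcop : Nat.Coprime n m) (hr : 1 ≤ r) (hc : x⁻¹ * y * x = y ^ r)
    (hl : l.Prime) (hln : l ∣ n)
    (hpq : ∀ x y : H, (orderOf x).Prime → (orderOf y).Prime → orderOf x ≠ orderOf y →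
      y * x * y⁻¹ ∈ zpowers x → x * y = y * x) :
    ((r ^ (n / l) : ℕ) : ZMod m) = 1 := by
  classical
  set c := r ^ (n / l) with hcdef
  have hc1 : 1 ≤ c := Nat.one_le_pow _ _ hr
  set w := x ^ (n / l) with hw
  have hwo : orderOf w = l := by
    rw [hw, ← hx]
    exact orderOf_pow_orderOf_div (by rw [hx]; exact hn.ne') (by rw [hx]; exact hln)
  have hwc : w⁻¹ * y * w = y ^ c := conj_pow_eq hc _
  have hsdvd : ∀ s : ℕ, s.Prime → s ∣ m → s ∣ c - 1 := by
    intro s hs hsm
    set y0 := y ^ (m / s) with hy0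
    have hy0o : orderOf y0 = s := by
      rw [hy0, ← hy]
      exact orderOf_pow_orderOf_div (by rw [hy]; exact hm.ne') (by rw [hy]; exact hsm)
    have hne : s ≠ l := by
      rintro rfl
      have := Nat.dvd_gcd hln hsm
      rw [hcop] at this
      exact hs.one_lt.ne' (Nat.dvd_one.mp this)
    have h1 : w⁻¹ * y0 * w = y0 ^ c := by
      have h2 : w⁻¹ * y0 * w = (w⁻¹ * y * w) ^ (m / s) := by
        have := conj_pow (a := w⁻¹) (b := y) (i := m / s)
        simpa [hy0] using this.symm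
      rw [h2, hwc, hy0, ← pow_mul, ← pow_mul, mul_comm]
    have h3 : y0 * w⁻¹ = w⁻¹ * y0 := by
      apply hpq y0 w⁻¹
      · rw [hy0o]; exact hs
      · rw [orderOf_inv, hwo]; exact hl
      · rw [orderOf_inv, hwo, hy0o]; exact hne
      · rw [inv_inv, h1]
        exact pow_mem (mem_zpowers _) _
    have h4 : y0 ^ c = y0 := by
      rw [← h1]
      calc w⁻¹ * y0 * w = y0 * w⁻¹ * w := by rw [h3]
        _ = y0 := by group
    have h5 : y0 ^ c = y0 ^ 1 := by rw [h4, pow_one]
    rw [pow_eq_pow_iff_modEq, hy0o] at h5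
    exact (Nat.modEq_iff_dvd' hc1).mp h5.symm
  -- `c ^ l ≡ 1 (mod m)`
  have hcl : ((c : ℕ) : ZMod m) ^ l = 1 := by
    have h1 : y ^ (r ^ n) = y := by
      have h2 := conj_pow_eq hc n
      rw [← hx, pow_orderOf_eq_one] at h2
      rw [hx] at h2
      simpa using h2.symm
    have h3 : y ^ (r ^ n) = y ^ 1 := by rw [h1, pow_one]
    rw [pow_eq_pow_iff_modEq, hy] at h3
    have h4 : ((r ^ n : ℕ) : ZMod m) = ((1 : ℕ) : ZMod m) :=
      (ZMod.natCast_eq_natCast_iff _ _ _).mpr h3
    have h5 : c ^ l = r ^ n := by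
      rw [hcdef, ← pow_mul, Nat.div_mul_cancel hln]
    rw [← Nat.cast_pow, h5, h4, Nat.cast_one]
  -- cancel the geometric sum
  have hcast : ((c : ℤ) - 1) * ∑ i ∈ Finset.range l, (c : ℤ) ^ i = (c : ℤ) ^ l - 1 := by
    rw [mul_comm]
    exact geom_sum_mul _ _
  have hdvd : (m : ℤ) ∣ ((c : ℤ) - 1) * ∑ i ∈ Finset.range l, (c : ℤ) ^ i := by
    rw [hcast]
    have : (((c : ℤ) ^ l - 1 : ℤ) : ZMod m) = 0 := by
      push_cast
      rw [hcl, sub_self]
    exact (ZMod.intCast_zmod_eq_zero_iff_dvd _ _).mp this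
  have hcopS : IsCoprime (m : ℤ) (∑ i ∈ Finset.range l, (c : ℤ) ^ i) := by
    rw [Int.isCoprime_iff_gcd_eq_one]
    by_contra hne
    obtain ⟨s, hs, hsd⟩ := Nat.exists_prime_and_dvd hne
    have hs1 : (s : ℤ) ∣ (m : ℤ) := by
      have := Int.gcd_dvd_left (m : ℤ) (∑ i ∈ Finset.range l, (c : ℤ) ^ i)
      exact (Int.natCast_dvd_natCast.mpr hsd).trans this
    have hs2 : (s : ℤ) ∣ ∑ i ∈ Finset.range l, (c : ℤ) ^ i := by
      have := Int.gcd_dvd_right (m : ℤ) (∑ i ∈ Finset.range l, (c : ℤ) ^ i)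
      exact (Int.natCast_dvd_natCast.mpr hsd).trans this
    have hs1' : s ∣ m := by exact_mod_cast hs1
    have hcs := hsdvd s hs hs1'
    -- modulo `s`, the sum is `l`
    haveI : Fact s.Prime := ⟨hs⟩
    have hcz : ((c : ℤ) : ZMod s) = 1 := by
      have : (((c - 1 : ℕ) : ℕ) : ZMod s) = 0 := (ZMod.natCast_eq_zero_iff _ _).mpr hcs
      rw [Nat.cast_sub hc1, Nat.cast_one, sub_eq_zero] at this
      simpa using this
    have hsum : (((∑ i ∈ Finset.range l, (c : ℤ) ^ i : ℤ)) : ZMod s) = (l : ZMod s) := by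
      push_cast
      have hcz' : ((c : ℕ) : ZMod s) = 1 := by simpa using hcz
      simp [hcz']
    have hz : ((∑ i ∈ Finset.range l, (c : ℤ) ^ i : ℤ) : ZMod s) = 0 :=
      (ZMod.intCast_zmod_eq_zero_iff_dvd _ _).mpr hs2
    rw [hsum] at hz
    have hsl : s ∣ l := (ZMod.natCast_eq_zero_iff _ _).mp hz
    have hsl' : s = l := (Nat.prime_dvd_prime_iff_eq hs hl).mp hsl
    have := Nat.dvd_gcd (hsl' ▸ hln) hs1'
    rw [hcop] at this
    exact hs.one_lt.ne' (Nat.dvd_one.mp this)
  have hfinal : (m : ℤ) ∣ (c : ℤ) - 1 := hcopS.dvd_of_dvd_mul_right hdvd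
  have : (((c : ℤ) - 1 : ℤ) : ZMod m) = 0 := (ZMod.intCast_zmod_eq_zero_iff_dvd _ _).mpr hfinal
  push_cast at this
  exact sub_eq_zero.mp this

/-- The power condition. -/
theorem pow_div_rad (x y : H) {n m r : ℕ} (hm : 0 < m) (hn : 0 < n) (hx : orderOf x = n)
    (hy : orderOf y = m) (hcop : Nat.Coprime n m) (hr : 1 ≤ r) (hc : x⁻¹ * y * x = y ^ r)
    (hpq : ∀ x y : H, (orderOf x).Prime → (orderOf y).Prime → orderOf x ≠ orderOf y →
      y * x * y⁻¹ ∈ zpowers x → x * y = y * x) :
    r ^ (n / ∏ p ∈ n.primeFactors, p) % m = 1 % m := by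
  set o := orderOf ((r : ℕ) : ZMod m) with ho
  have h0 : o ∣ n := by
    apply orderOf_dvd_of_pow_eq_one
    have h1 : y ^ (r ^ n) = y := by
      have h2 := conj_pow_eq hc n
      rw [← hx, pow_orderOf_eq_one] at h2
      rw [hx] at h2
      simpa using h2.symm
    have h3 : y ^ (r ^ n) = y ^ 1 := by rw [h1, pow_one]
    rw [pow_eq_pow_iff_modEq, hy] at h3
    have h4 : ((r ^ n : ℕ) : ZMod m) = ((1 : ℕ) : ZMod m) :=
      (ZMod.natCast_eq_natCast_iff _ _ _).mpr h3
    simpa using h4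
  have h1 : ∀ l : ℕ, l.Prime → l ∣ n → o ∣ n / l := by
    intro l hl hln
    apply orderOf_dvd_of_pow_eq_one
    have := pow_div_prime x y hm hn hx hy hcop hr hc hl hln hpq
    simpa using this
  have h2 := dvd_div_rad hn h0 h1
  have h3 : ((r : ℕ) : ZMod m) ^ (n / ∏ p ∈ n.primeFactors, p) = 1 :=
    orderOf_dvd_iff_pow_eq_one.mp h2
  have h4 : ((r ^ (n / ∏ p ∈ n.primeFactors, p) : ℕ) : ZMod m) = ((1 : ℕ) : ZMod m) := by
    push_cast
    exact h3
  exact (ZMod.natCast_eq_natCast_iff _ _ _).mp h4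

end Data

/-- **Zassenhaus presentation.** -/
theorem main {H : Type*} [Group H] [Finite H] [IsZGroup H]
    (hpq : ∀ x y : H, (orderOf x).Prime → (orderOf y).Prime → orderOf x ≠ orderOf y →
      y * x * y⁻¹ ∈ zpowers x → x * y = y * x) :
    ∃ n m r : ℕ, 0 < n ∧ 0 < m ∧ Nat.Coprime (r - 1) m ∧ Nat.Coprime n m ∧ 1 ≤ r ∧
      r ^ (n / ∏ p ∈ n.primeFactors, p) % m = 1 % m ∧
      Nonempty (H ≃* PresentedGroup (rels n m r)) := by
  classical
  have hKc : IsCyclic (commutator H) := IsZGroup.isCyclic_commutator H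
  have hcop0 : (Nat.card (commutator H)).Coprime (commutator H).index :=
    IsZGroup.coprime_commutator_index H
  obtain ⟨C, hC⟩ := Subgroup.exists_right_complement'_of_coprime hcop0
  -- the complement is cyclic
  have hCc : IsCyclic C := by
    let f : C →* Abelianization H := (Abelianization.of).comp C.subtype
    have hf : Function.Injective f := by
      rw [injective_iff_map_eq_one]
      intro a ha
      have h1 : (a : H) ∈ commutator H := by
        have h2 : Abelianization.of (a : H) = 1 := ha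
        have h3 := (QuotientGroup.eq_one_iff (a : H)).mp h2
        exact h3
      have h4 : (a : H) ∈ commutator H ⊓ C := ⟨h1, a.2⟩
      rw [hC.disjoint.eq_bot, Subgroup.mem_bot] at h4
      exact Subtype.ext h4
    exact isCyclic_of_injective f hf
  obtain ⟨y', hy'⟩ := IsCyclic.exists_generator (α := commutator H)
  obtain ⟨x', hx'⟩ := IsCyclic.exists_generator (α := C)
  set y : H := (y' : H) with hydef
  set x : H := (x' : H) with hxdef
  set n := Nat.card C with hn
  set m := Nat.card (commutator H) with hm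
  have hn0 : 0 < n := Nat.card_pos
  have hm0 : 0 < m := Nat.card_pos
  have hxo : orderOf x = n := by
    rw [hxdef, Subgroup.orderOf_coe, orderOf_eq_card_of_forall_mem_zpowers hx']
  have hyo : orderOf y = m := by
    rw [hydef, Subgroup.orderOf_coe, orderOf_eq_card_of_forall_mem_zpowers hy']
  have hKeq : commutator H = zpowers y := by
    apply le_antisymm
    · intro k hk
      obtain ⟨t, ht⟩ := hy' ⟨k, hk⟩
      refine ⟨t, ?_⟩
      have := congrArg (Subtype.val) ht
      simpa using this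
    · rw [zpowers_le]
      exact y'.2
  have hCeq : C = zpowers x := by
    apply le_antisymm
    · intro k hk
      obtain ⟨t, ht⟩ := hx' ⟨k, hk⟩
      refine ⟨t, ?_⟩
      have := congrArg (Subtype.val) ht
      simpa using this
    · rw [zpowers_le]
      exact x'.2
  have hcop : Nat.Coprime n m := by
    have h1 : (commutator H).index = n := hC.symm.index_eq_card
    rw [h1] at hcop0
    exact hcop0.symm
  have hcard : Nat.card H = m * n := hC.card_mul_card.symm
  -- the exponent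
  have hconjmem : x⁻¹ * y * x ∈ zpowers y := by
    rw [← hKeq]
    have := (inferInstance : (commutator H).Normal).conj_mem y y'.2 x⁻¹
    simpa using this
  have hfin : IsOfFinOrder y := isOfFinOrder_of_finite y
  obtain ⟨r0, hr0⟩ := (hfin.mem_powers_iff_mem_zpowers).mpr hconjmem
  have hr0' : y ^ r0 = x⁻¹ * y * x := hr0
  set r := r0 + m with hr
  have hr1 : 1 ≤ r := by omega
  have hc : x⁻¹ * y * x = y ^ r := by
    rw [hr, pow_add, ← hr0', ← hyo, pow_orderOf_eq_one, mul_one]
  have hgen : ∀ g : H, ∃ a b : ℕ, g = y ^ a * x ^ b := by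
    intro g
    obtain ⟨u, hu, v, hv, rfl⟩ : ∃ u ∈ (commutator H : Set H), ∃ v ∈ (C : Set H), u * v = g := by
      have := hC.sup_eq_top
      have h1 : g ∈ (commutator H ⊔ C : Subgroup H) := by rw [this]; trivial
      have h2 : g ∈ ((commutator H : Set H) * (C : Set H)) := by
        rw [← Subgroup.normal_mul]
        exact h1
      exact Set.mem_mul.mp h2
    have hu' : u ∈ zpowers y := by rw [← hKeq]; exact hu
    have hv' : v ∈ zpowers x := by rw [← hCeq]; exact hv
    obtain ⟨a, ha⟩ := (hfin.mem_powers_iff_mem_zpowers).mpr hu'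
    obtain ⟨b, hb⟩ := ((isOfFinOrder_of_finite x).mem_powers_iff_mem_zpowers).mpr hv'
    exact ⟨a, b, by
      have ha' : y ^ a = u := ha
      have hb' : x ^ b = v := hb
      rw [ha', hb']⟩
  refine ⟨n, m, r, hn0, hm0, ?_, hcop, hr1, ?_, ?_⟩
  · exact coprime_sub_one x y hm0 hyo hc hr1 hgen hKeq
  · exact pow_div_rad x y hm0 hn0 hxo hyo hcop hr1 hc hpq
  · exact pres_iso x y hn0 hm0 (by rw [← hxo]; exact pow_orderOf_eq_one x)
      (by rw [← hyo]; exact pow_orderOf_eq_one y) hc hgen hcard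

end Cfsg.Agent.Lib.ZPres
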